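import Cfsg.Agent.Rec.Gen
import Cfsg.Agent.Schur.Alt

/-! Lifted Carmichael generators of the double cover of `A₈`: `Car x z`. Order, quotient, transfer of relations between two such
systems, existence in a non-split double cover. -/

set_option autoImplicit false
set_option linter.unusedSectionVars false

namespace Cfsg.Agent.Rec

open Cfsg.Agent.BG Cfsg.Agent.Spor Equiv Cfsg.Agent.Pres Cfsg.Agent.Schur

variable {J J' : Type*} [Group J] [Group J'] {x : ℕ → J} {z : J} {x' : ℕ → J'} {z' : J'}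

def cc3 (l : ℕ) : Perm (Fin 8) := c3 (Fin.ofNat 8 l) 6 7

structure Car (x : ℕ → J) (z : J) : Prop where
  p3 : ∀ i < 6, x i ^ 3 = 1
  p2 : ∀ i < 6, ∀ j < 6, i ≠ j → (x i * x j) ^ 2 = z
  zz : z * z = 1
  ne : z ≠ 1
  cm : ∀ i < 6, Commute (x i) z

theorem Car.prod (h : Car x z) (h' : Car x' z') : Car (fun l => (x l, x' l)) (z, z') :=
  ⟨fun i hi => Prod.ext (h.p3 i hi) (h'.p3 i hi), fun i hi j hj e => Prod.ext (h.p2 i hi j hj e) (h'.p2 i hi j hj e),
    Prod.ext h.zz h'.zz, fun e => h.ne (congrArg Prod.fst e), fun i hi => Prod.ext (h.cm i hi) (h'.cm i hi)⟩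

theorem Car.z_mem (h : Car x z) : z ∈ genL x (List.range 6) :=
  h.p2 0 (by decide) 1 (by decide) (by decide) ▸ pow_mem (mul_mem (mem_genL x (by decide)) (mem_genL x (by decide))) 2

theorem Car.le (h : Car x z) : genL x (List.range 6) ≤ C1[z] :=
  genL_le fun i hi => Subgroup.mem_centralizer_singleton_iff.2 (h.cm i (List.mem_range.1 hi)).eq

theorem Car.ker (h : Car x z) : genL cc3 (List.range 6) = alternatingGroup (Fin 8) ∧
    ∀ p ∈ genL (fun l => (x l, cc3 l)) (List.range 6), p.2 = 1 → p.1 = 1 ∨ p.1 = z := by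
  have m : ∀ i : Fin 8, (if (i : ℕ) < 6 then x i * z else 1) ∈ C1[z] := fun i => by
    split_ifs with hi
    exacts [Subgroup.mem_centralizer_singleton_iff.2 ((h.cm i hi).mul_left (Commute.refl z)).eq, one_mem _]
  have mz : z ∈ C1[z] := Subgroup.mem_centralizer_singleton_iff.2 rfl
  have hs : ∀ i : Fin 8, i ∈ Finset.univ.filter (fun i : Fin 8 => (i : ℕ) < 6) ↔ i ≠ 6 ∧ i ≠ 7 := by decide
  have hl : ∀ {i : Fin 8}, i ∈ Finset.univ.filter (fun i : Fin 8 => (i : ℕ) < 6) → (i : ℕ) < 6 := fun h => (Finset.mem_filter.1 h).2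
  have p2 : ∀ i j : Fin 8, (i : ℕ) < 6 → (j : ℕ) < 6 → i ≠ j → (x i * z * (x j * z)) ^ 2 = z := fun i j hi hj e => by
    rw [mul_assoc, ← mul_assoc z, ← (h.cm j hj).eq, mul_assoc, h.zz, mul_one, h.p2 i hi j hj fun e' => e (Fin.ext e')]
  obtain ⟨h1, h2⟩ := carm_mod (J := C1[z] × Perm (Fin 8)) (π := MonoidHom.snd _ _) (u := 6) (v := 7) (by decide)
    (fun i => (⟨_, m i⟩, c3 i 6 7)) hs (a := (⟨z, mz⟩, 1))
    (Subgroup.mem_center_iff.2 fun g => Prod.ext (Subtype.ext (Subgroup.mem_centralizer_singleton_iff.1 g.1.2)) (by simp)) rfl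
    (fun i hi => Prod.ext (Subtype.ext (by
      simp only [Prod.pow_fst, SubmonoidClass.mk_pow, if_pos (hl hi)]
      rw [(h.cm i (hl hi)).mul_pow, h.p3 i (hl hi), one_mul, pow_succ, sq, h.zz, one_mul]))
      (c3_pow_three ((hs i).1 hi).1 ((hs i).1 hi).2 (by decide)))
    (fun i hi j hj e => Prod.ext (Subtype.ext (by
      simp only [Prod.pow_fst, Prod.fst_mul, SubmonoidClass.coe_pow, Subgroup.coe_mul, if_pos (hl hi), if_pos (hl hj)]
      exact p2 i j (hl hi) (hl hj) e))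
      (c3_mul_sq ((hs i).1 hi).1 ((hs i).1 hi).2 (by decide) ((hs j).1 hj).1 ((hs j).1 hj).2 e)) fun i _ => rfl
  refine ⟨?_, fun p hp e => ?_⟩
  · rw [← h1, MonoidHom.map_closure, genL]
    congr 1; ext σ
    constructor
    · rintro ⟨l, hl, rfl⟩
      exact ⟨_, ⟨Fin.ofNat 8 l, by revert l; decide, rfl⟩, rfl⟩
    · rintro ⟨_, ⟨i, hi, rfl⟩, rfl⟩
      exact ⟨i, List.mem_range.2 (hl hi), by simp [cc3]⟩
  · generalize hK : Subgroup.closure (G := C1[z] × Perm (Fin 8)) _ = K at h2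
    have hx : ∀ i : Fin 8, (i : ℕ) < 6 → ((⟨_, m i⟩, c3 i 6 7) : C1[z] × Perm (Fin 8)) ∈ K := fun i hi =>
      hK ▸ Subgroup.subset_closure ⟨i, Finset.mem_coe.2 (Finset.mem_filter.2 ⟨Finset.mem_univ _, hi⟩), rfl⟩
    have ha : ((⟨z, mz⟩, 1) : C1[z] × Perm (Fin 8)) ∈ K := by
      have := pow_mem (hx 0 (by decide)) 3
      convert this using 1
      refine Prod.ext (Subtype.ext ?_) (c3_pow_three (by decide) (by decide) (by decide)).symm
      show z = (x 0 * z) ^ 3
      rw [(h.cm 0 (by decide)).mul_pow, h.p3 0 (by decide), one_mul, pow_succ, sq, h.zz, one_mul]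
    obtain ⟨q, hq, rfl⟩ : p ∈ K.map ((C1[z]).subtype.prodMap (MonoidHom.id _)) := genL_le (fun l hl' => by
      have hl' := List.mem_range.1 hl'
      have e : ((Fin.ofNat 8 l : Fin 8) : ℕ) = l := Nat.mod_eq_of_lt (by omega)
      refine ⟨_, mul_mem (hx (Fin.ofNat 8 l) (by omega)) ha, Prod.ext ?_ (mul_one _)⟩
      show (if _ then _ else _) * z = x l
      rw [if_pos (by omega), e, mul_assoc, h.zz, mul_one]) hp
    obtain ⟨k, rfl⟩ := h2 q hq e
    have h3 : z ^ (2 : ℤ) = 1 := by rw [zpow_two, h.zz]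
    show z ^ k = 1 ∨ z ^ k = z
    rcases Int.emod_two_eq_zero_or_one k with e | e <;> rw [zpow_eq_zpow_emod k h3, e] <;> simp

theorem Car.inj (h : Car x z) : ∀ p ∈ genL (fun l => (x l, cc3 l)) (List.range 6), p.1 = 1 → p.2 = 1 := by
  obtain ⟨h1, h2⟩ := h.ker
  have h0 : (x 0, cc3 0) ∈ genL (fun l => (x l, cc3 l)) (List.range 6) := mem_genL (fun l => (x l, cc3 l)) (by decide)
  have h3 : (genL (fun l => (x l, cc3 l)) (List.range 6)).map (MonoidHom.snd J _) = alternatingGroup (Fin 8) :=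
    (map_genL' ..).trans h1
  generalize genL (fun l => (x l, cc3 l)) (List.range 6) = K at *
  have hN : ((K.comap (MonoidHom.inr J _)).subgroupOf (alternatingGroup (Fin 8))).Normal := ⟨fun n hn g => by
    obtain ⟨p, hp, e⟩ := h3.ge g.2
    have := mul_mem (mul_mem hp hn) (inv_mem hp)
    show MonoidHom.inr J _ (g * n * g⁻¹ : alternatingGroup (Fin 8)).1 ∈ K
    convert this using 1
    exact Prod.ext (by simp) (by simp [← e])⟩
  rcases (alternatingGroup.isSimpleGroup (by simp)).eq_bot_or_eq_top_of_normal _ hN with e | e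
  · rintro ⟨a, b⟩ hp (rfl : a = 1)
    exact congrArg Subtype.val (e.le (show (⟨b, h3.le ⟨_, hp, rfl⟩⟩ : alternatingGroup (Fin 8)) ∈ _ from hp))
  · have h4 : ((1 : J), cc3 0) ∈ K := e.ge (Subgroup.mem_top (⟨cc3 0, h3.le ⟨_, h0, rfl⟩⟩ : alternatingGroup (Fin 8)))
    have h5 := h.p3 0 (by decide)
    have h6 := h.p2 0 (by decide) 1 (by decide) (by decide)
    rcases h2 _ (mul_mem h0 (inv_mem h4)) (by simp) with e | e <;> simp only [Prod.fst_mul, Prod.fst_inv, inv_one, mul_one] at e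
    · have h7 := h.p3 1 (by decide)
      rw [e, one_mul] at h6
      rw [pow_succ, h6] at h7
      have h8 : x 1 = z := by rw [← one_mul (x 1), ← h.zz, mul_assoc, h7, mul_one]
      exact absurd (by rw [← h6, h8, sq, h.zz]) h.ne
    · rw [e, pow_succ, sq, h.zz, one_mul] at h5
      exact absurd h5 h.ne

/-- transfer of relations -/
theorem Car.tr (h : Car x z) (h' : Car x' z') : ∀ p ∈ genL (fun l => (x l, x' l)) (List.range 6), p.1 = 1 → p.2 = 1 := by
  intro p hp e
  obtain ⟨q, hq, rfl⟩ := (map_genL' (MonoidHom.fst (J × J') (Perm (Fin 8))) (fun l => ((x l, x' l), cc3 l)) (List.range 6)).ge hp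
  have h1 := h.inj _ ((map_genL' ((MonoidHom.fst J J').prodMap (MonoidHom.id (Perm (Fin 8)))) (fun l => ((x l, x' l), cc3 l))
    (List.range 6)).le ⟨q, hq, rfl⟩) e
  rcases (h.prod h').ker.2 q hq h1 with e1 | e1
  · exact congrArg Prod.snd e1
  · exact absurd ((congrArg Prod.fst e1).symm.trans e) h.ne

theorem Car.hom (h : Car x z) : ∃ π : genL x (List.range 6) →* alternatingGroup (Fin 8), Function.Surjective π ∧
    ∀ g, π g = 1 ↔ g.1 = 1 ∨ g.1 = z := by
  obtain ⟨h1, h2⟩ := h.ker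
  have h0 := h.inj
  have h3 : (genL (fun l => (x l, cc3 l)) (List.range 6)).map (MonoidHom.snd J _) = alternatingGroup (Fin 8) :=
    (map_genL' ..).trans h1
  have h4 : (genL (fun l => (x l, cc3 l)) (List.range 6)).map (MonoidHom.fst J _) = genL x (List.range 6) := map_genL' ..
  have h5 : (z, 1) ∈ genL (fun l => (x l, cc3 l)) (List.range 6) := by
    have := pow_mem (mul_mem (mem_genL (fun l => (x l, cc3 l)) (xs := List.range 6) (x := 0) (by decide))
      (mem_genL (fun l => (x l, cc3 l)) (x := 1) (by decide))) 2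
    rwa [Prod.mk_mul_mk, Prod.pow_mk, h.p2 0 (by decide) 1 (by decide) (by decide), show (cc3 0 * cc3 1) ^ 2 = 1 by decide] at this
  generalize genL (fun l => (x l, cc3 l)) (List.range 6) = K at *
  let e := MulEquiv.ofBijective (((MonoidHom.fst J _).comp K.subtype).codRestrict (genL x (List.range 6))
    fun p => h4.le ⟨p, p.2, rfl⟩) ⟨(injective_iff_map_eq_one _).2 fun p hp => Subtype.ext
      (Prod.ext (congrArg Subtype.val hp) (h0 p p.2 (congrArg Subtype.val hp))), fun g => by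
        obtain ⟨p, hp, e⟩ := h4.ge g.2; exact ⟨⟨p, hp⟩, Subtype.ext e⟩⟩
  refine ⟨(((MonoidHom.snd J _).comp K.subtype).codRestrict _ fun p => h3.le ⟨p, p.2, rfl⟩).comp e.symm.toMonoidHom,
    fun g => ?_, fun g => ?_⟩
  · obtain ⟨p, hp, e1⟩ := h3.ge g.2
    exact ⟨e ⟨p, hp⟩, Subtype.ext (by simpa using e1)⟩
  · obtain ⟨p, rfl⟩ := e.surjective g
    simp only [MonoidHom.comp_apply, MulEquiv.coe_toMonoidHom, MulEquiv.symm_apply_apply]
    refine ⟨fun h => h2 p p.2 (congrArg Subtype.val h), fun h => Subtype.ext (h.elim (h0 p p.2) fun h => ?_)⟩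
    simpa using h0 _ (mul_mem p.2 (inv_mem h5)) (mul_inv_eq_one.2 h)

theorem card_A8 : Nat.card (alternatingGroup (Fin 8)) = 20160 := by
  rw [nat_card_alternatingGroup]; simp [Nat.factorial]

theorem Car.card (h : Car x z) : #(genL x (List.range 6)) = 40320 := by
  obtain ⟨π, h1, h2⟩ := h.hom
  have h3 : π.ker = Subgroup.zpowers ⟨z, h.z_mem⟩ := by
    refine le_antisymm (fun g hg => ?_) (Subgroup.zpowers_le.2 ((h2 _).2 (.inr rfl)))
    rcases (h2 g).1 hg with e | e
    exacts [(Subtype.ext e : g = 1) ▸ one_mem _, (Subtype.ext e : g = ⟨z, h.z_mem⟩) ▸ Subgroup.mem_zpowers _]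
  rw [← π.ker.index_mul_card, Subgroup.index_ker, MonoidHom.range_eq_top.2 h1, Subgroup.card_top, card_A8, h3, Nat.card_zpowers,
    orderOf_eq_prime (p := 2) (Subtype.ext (by simpa [sq] using h.zz)) fun e => h.ne (congrArg Subtype.val e)]

theorem Car.cover (h : Car x z) : IsNonsplitDoubleCover (genL x (List.range 6)) (alternatingGroup (Fin 8)) := by
  obtain ⟨π, h1, -⟩ := h.hom
  refine nonsplit_of_surj π h1 (alternatingGroup.center_eq_bot (by simp)) (by rw [h.card, card_A8]) (by rw [card_A8]; decide)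
    fun L e => ?_
  have : genL x (List.range 6) ≤ L.map (Subgroup.subtype _) := genL_le fun i hi => by
    have := L.mul_self_mem_of_index_two e ⟨x i, mem_genL x hi⟩
    refine ⟨_, mul_mem this this, ?_⟩
    calc _ = x i ^ 3 * x i := by simp [pow_succ, mul_assoc]
      _ = _ := by rw [h.p3 i (List.mem_range.1 hi), one_mul]
  have : L = ⊤ := top_le_iff.1 fun g _ => by obtain ⟨k, hk, e⟩ := this g.2; exact (Subtype.ext e : k = g) ▸ hk
  simp [this] at e

theorem exists_car [Finite J] {t : J} (ht : orderOf t = 2) (hc : IsNonsplitDoubleCover C1[t] (alternatingGroup (Fin 8))) :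
    ∃ x : ℕ → J, Car x t ∧ genL x (List.range 6) = C1[t] := by
  obtain ⟨h1, ⟨e⟩, h2⟩ := hc
  let π : C1[t] →* Perm (Fin 8) := ((Subgroup.subtype _).comp e.toMonoidHom).comp (QuotientGroup.mk' _)
  have hk : π.ker = Subgroup.center _ := by ext g; simp [π]
  have hr : π.range = alternatingGroup (Fin 8) := by
    rw [MonoidHom.range_comp, QuotientGroup.range_mk', ← MonoidHom.range_eq_map, MonoidHom.range_comp,
      MonoidHom.range_eq_top.2 e.surjective, ← MonoidHom.range_eq_map, Subgroup.range_subtype]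
  have mt : t ∈ C1[t] := Subgroup.mem_centralizer_singleton_iff.2 rfl
  have h3 : ∀ w ∈ π.ker, w = 1 ∨ w = ⟨t, mt⟩ := fun w hw => by
    rw [hk] at hw
    obtain ⟨y, -, hy⟩ := (Nat.card_eq_two_iff' (1 : Subgroup.center C1[t])).1 h1
    refine or_iff_not_imp_left.2 fun h4 => congrArg Subtype.val ((hy ⟨w, hw⟩ fun e => h4 (congrArg Subtype.val e)).trans
      (hy ⟨⟨t, mt⟩, Subgroup.mem_center_iff.2 fun g => Subtype.ext (Subgroup.mem_centralizer_singleton_iff.1 g.2)⟩ fun e =>
        Invol.ne_one_of ht (congrArg (fun u => u.1.1) e)).symm)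
  have h4 : ∀ w ∈ π.ker, w ^ 2 = 1 := fun w hw => by
    rcases h3 w hw with rfl | rfl
    exacts [one_pow _, Subtype.ext (ht ▸ pow_orderOf_eq_one t :)]
  have hs : ∀ i : Fin 8, i ∈ Finset.univ.filter (fun i : Fin 8 => (i : ℕ) < 6) ↔ i ≠ 6 ∧ i ≠ 7 := by decide
  obtain ⟨x, k1, k2, k3⟩ := lifts3 hk.le hr (u := 6) (v := 7) (by decide) hs fun z hz =>
    Nat.Coprime.coprime_dvd_left (orderOf_dvd_of_pow_eq_one (h4 z hz)) (by norm_num)
  obtain ⟨w1, w2⟩ := w_const hk.le hr (by decide) x hs k1 (i0 := 0) (j0 := 1) (by decide) (by decide) (by decide) k3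
  have w3 := (h3 _ w1).resolve_left fun e => by
    obtain ⟨L, hL⟩ := split_of_invol hk.le hr h4 (i := 0) (j := 1) (u := 6) (v := 7) (by decide) (t := x 0 * x 1)
      (by rw [map_mul, k1 0 (by decide), k1 1 (by decide), c3_mul_c3 (by decide) (by decide)]) e
    exact h2 L (hk ▸ hL)
  have m : ∀ i < 6, Fin.ofNat 8 i ∈ Finset.univ.filter (fun i : Fin 8 => (i : ℕ) < 6) := by decide
  have H : Car (fun l => (x (Fin.ofNat 8 l) : J)) t := ⟨fun i hi => congrArg Subtype.val (k2 _ (m i hi)), fun i hi j hj e =>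
    congrArg Subtype.val ((w2 _ (m i hi) _ (m j hj) (by revert i j; decide)).trans w3), Invol.mul_self_of ht, Invol.ne_one_of ht,
      fun i _ => Subgroup.mem_centralizer_singleton_iff.1 (x _).2⟩
  refine ⟨_, H, Subgroup.eq_of_le_of_card_ge H.le ?_⟩
  rw [H.card, Subgroup.card_eq_card_quotient_mul_card_subgroup (Subgroup.center C1[t]), h1, Nat.card_congr e.toEquiv, card_A8]

end Cfsg.Agent.Rec
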